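import Groth.Agent.S2926
import Groth.Agent.LMLib.End
import Groth.Agent.HomTwistLib.Main
import Groth.Agent.ChernOpLib.Dual
import Groth.Agent.HodgePnLib.Final
import Groth.Agent.ProjFormLib.Proj
import Groth.Agent.CohCmpLib.HomLift
import Groth.Agent.CohCmpLib.SectionPair
import Groth.Agent.CurvLib.Divisor
import Groth.Agent.CurvLib.Line
import Groth.Agent.CurvLib.EulerTensor
import Groth.Agent.CurvLib.Euler
import Groth.Agent.FinLFAnnLib.Main
import Groth.Agent.SerreVanLib.Main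
import Groth.Agent.PerfLib.Coherent
import Groth.Agent.AmpleDevLib.Devissage
import Groth.Agent.VBResLib.KFunct
import Groth.Agent.PlaneCurveLib.Coh
import Groth.Agent.GradedCechLib.Main
import Groth.Agent.QCohLib.Push

/-!
# Cohomology of the tangent sheaf of projective space, twisted and restricted
-/

set_option autoImplicit false
set_option linter.style.haveILetI false
set_option linter.unusedSectionVars false
set_option maxHeartbeats 800000
set_option backward.isDefEq.respectTransparency false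
set_option backward.isDefEq.respectTransparency.types false

universe u

open CategoryTheory CategoryTheory.Limits AlgebraicGeometry
open CohB1 (tensorMod)
open CohCmpLib (homMod evMod)

noncomputable section

namespace TanPnLib

theorem extOne {X : Scheme.{u}} (E : X.Modules) : ExtPow.IsExtPow 1 E E := by
  refine ⟨fun U => (exteriorPower.oneEquiv Γ(X, U.1) (E.val.obj (Opposite.op U.1))).symm, fun U V h e => ?_⟩
  rw [LinearEquiv.symm_symm, LinearEquiv.symm_symm, exteriorPower.oneEquiv_ιMulti, exteriorPower.oneEquiv_ιMulti]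

theorem finLocFree_tensor {X : Scheme.{u}} [IsLocallyNoetherian X] {F G : X.Modules} (hF : FlatMod.IsFinLocFree F)
    (hG : PicF.IsInvertible G) : FlatMod.IsFinLocFree (tensorMod F G) :=
  VBResLib.vb_tensor _ hF (AmpleDevLib.isFinLocFree_of_isInvertible hG)

theorem restrict_seq {X : Scheme.{u}} (I : X.IdealSheafData) {F : X.Modules} (hF : FlatMod.IsFinLocFree F) :
    ∃ T : ShortComplex X.Modules, T.ShortExact ∧ Nonempty (T.X₁ ≅ tensorMod F (ClSub.idealMod I)) ∧
      Nonempty (T.X₂ ≅ F) ∧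
      Nonempty (T.X₃ ≅ (Coh.push I.subschemeι).obj ((Scheme.Modules.pullback I.subschemeι).obj F)) := by
  haveI := ProjFormLib.isIso_projApp I.subschemeι hF (Coh.structureModule I.subscheme)
  let pr := asIso (ProjFormLib.projApp I.subschemeι F (Coh.structureModule I.subscheme))
  exact ⟨(CurvLib.idealSeq I).map (ProjFormLib.tF F),
    ProjFormLib.shortExact_tens hF (CurvLib.idealSeq_shortExact _),
    ⟨Iso.refl _⟩,
    ⟨HilbPolyLib.swapIso _ _ ≪≫ HilbPolyLib.unitLeft F⟩,
    ⟨pr ≪≫ (Scheme.Modules.pushforward I.subschemeι).mapIso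
      (HilbPolyLib.swapIso _ _ ≪≫ HilbPolyLib.unitLeft _)⟩⟩

variable (k : Type u) [Field k] (n : ℕ)

local notation "P" => CohB1.ProjSpace n k
local notation "O'" => Twist.twistProjSpace n k

/-- The differentials. -/
abbrev Om : (CohB1.ProjSpace n k).Modules := Omega.sheaf (CohB1.ProjSpace.toSpec n k)

/-- The tangent sheaf. -/
abbrev Tan : (CohB1.ProjSpace n k).Modules := homMod (Om k n) (Coh.structureModule (CohB1.ProjSpace n k))

theorem vb_tan : FlatMod.IsFinLocFree (Tan k n) :=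
  CohCmpLib.isFinLocFree_homMod (HodgePnLib.vb_omega n k)
    (CurveVBLib.isFinLocFree_of_rank ((CohCmpLib.invertible_iff_rank_one _).1 CurvLib.isInvertible_structureModule))

theorem du_twist (e : ℤ) : Nonempty (homMod (O' e) (Coh.structureModule P) ≅ O' (-e)) := by
  obtain ⟨-, hiso⟩ := ChernOpLib.exists_du_inv (PicPnLib.twist_inv n k e)
  haveI := hiso
  obtain ⟨a⟩ := PicPnLib.twist_add n k e (-e)
  obtain ⟨z⟩ := PicPnLib.twist_zero n k
  exact CohCmpLib.nonempty_iso_of_inverse_unique (asIso (evMod (O' e) (Coh.structureModule P)))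
    (a ≪≫ eqToIso (congrArg O' (add_neg_cancel e)) ≪≫ z)

theorem homMod_inv (M : (CohB1.ProjSpace n k).Modules) {L : (CohB1.ProjSpace n k).Modules}
    (hL : PicF.IsInvertible L) :
    Nonempty (homMod M L ≅ tensorMod (homMod M (Coh.structureModule P)) L) := by
  obtain ⟨c⟩ := LMLib.nonempty_homMod_right M (HilbPolyLib.unitLeft L).symm
  exact ⟨c ≪≫ (Groth.Agent.HomTwistLib.homTwistIso M
    (CurveVBLib.isFinLocFree_of_rank ((CohCmpLib.invertible_iff_rank_one L).1 hL))).app (Coh.structureModule P)⟩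

theorem homMod_twist (e c t : ℤ) (h : -e + c = t) : Nonempty (homMod (O' e) (O' c) ≅ O' t) := by
  obtain ⟨a⟩ := homMod_inv k n (O' e) (PicPnLib.twist_inv n k c)
  obtain ⟨b⟩ := du_twist k n e
  obtain ⟨s⟩ := PicPnLib.twist_add n k (-e) c
  exact ⟨a ≪≫ HilbPolyLib.congrLeft b _ ≪≫ s ≪≫ eqToIso (congrArg O' h)⟩

theorem dual_iso (e c t : ℤ) (h : -e + c = t) :
    Nonempty (homMod (tensorMod (Om k n) (O' e)) (O' c) ≅ tensorMod (Tan k n) (O' t)) := by
  obtain ⟨a⟩ := homMod_twist k n e c t h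
  obtain ⟨b⟩ := LMLib.nonempty_homMod_right (Om k n) a
  obtain ⟨c'⟩ := homMod_inv k n (Om k n) (PicPnLib.twist_inv n k t)
  exact ⟨LMLib.homModLeftIso (HilbPolyLib.swapIso _ _) _ ≪≫ LMLib.homModTensorIso (O' e) (Om k n) _ ≪≫ b ≪≫ c'⟩

theorem coh_om (e : ℤ) : Coh.IsCoh (tensorMod (Om k n) (O' e)) :=
  Groth.Agent.PerfLib.isCoh_of_isFinLocFree (finLocFree_tensor (HodgePnLib.vb_omega n k) (PicPnLib.twist_inv n k e))

/-- Serre duality for the tangent sheaf. -/
theorem finrank_tan (t : ℤ) (q : ℕ) (hq : q ≤ n) :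
    Module.finrank k (Coh.HH P (tensorMod (Tan k n) (O' t)) q) =
      HodgePnLib.hd n k (Om k n) (-t - ((n : ℤ) + 1)) (n - q) := by
  set e : ℤ := -t - ((n : ℤ) + 1) with he
  have hF : FlatMod.IsFinLocFree (tensorMod (Om k n) (O' e)) :=
    finLocFree_tensor (HodgePnLib.vb_omega n k) (PicPnLib.twist_inv n k e)
  haveI : DCoh.HasSheafHom (tensorMod (Om k n) (O' e)) := (HomCohLib.homAdj _).isLeftAdjoint
  obtain ⟨d⟩ := Groth.Agent.S2926.result k n _ hF (n - q) (Nat.sub_le n q)
  obtain ⟨i⟩ := dual_iso k n e (-((n : ℤ) + 1)) t (by rw [he]; ring)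
  haveI : Module.Finite k (Coh.HH P (tensorMod (Om k n) (O' e)) (n - q)) :=
    GradedCechLib.finite_HH _ (coh_om k n e) _
  have h := d.finrank_eq
  rw [Subspace.dual_finrank_eq, Nat.sub_sub_self hq,
    HodgePnLib.finrank_congr n k (HomCohLib.sheafHomIso _ _ ≪≫ i)] at h
  exact h.symm

theorem sub_iff (t : ℤ) (q : ℕ) (hq : q ≤ n) :
    Subsingleton (Coh.HH P (tensorMod (Tan k n) (O' t)) q) ↔
      HodgePnLib.hd n k (Om k n) (-t - ((n : ℤ) + 1)) (n - q) = 0 := by
  haveI : Module.Finite k (Coh.HH P (tensorMod (Tan k n) (O' t)) q) := GradedCechLib.finite_HH _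
    (Groth.Agent.PerfLib.isCoh_of_isFinLocFree (finLocFree_tensor (vb_tan k n) (PicPnLib.twist_inv n k t))) _
  rw [← finrank_tan k n t q hq, Module.finrank_zero_iff (R := k)]

theorem sub_tan (hn : 2 ≤ n) (q : ℕ) (h0 : 1 ≤ q) (hq : q ≤ 2) : Subsingleton (Coh.HH P (Tan k n) q) := by
  obtain ⟨z⟩ := HodgePnLib.tensor_zero_iso n k (Tan k n)
  refine SerreVanLib.subsingleton_HH_of_iso z.symm q ((sub_iff k n 0 q (by omega)).2 ?_)
  rw [HodgePnLib.bott_all k n (by omega) 1 (n - q) (by omega) (by omega) _ (extOne _),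
    if_neg (by omega), if_neg (by omega), if_neg (by omega)]

/-- `H²(T(-d))` vanishes outside two families. -/
theorem sub_two_iff (hn : 2 ≤ n) (d : ℕ) :
    Subsingleton (Coh.HH P (tensorMod (Tan k n) (O' (-(d : ℤ)))) 2) ↔
      ¬ ((n = 2 ∧ 5 ≤ d) ∨ (n = 3 ∧ d = 4)) := by
  rw [sub_iff k n _ 2 hn,
    HodgePnLib.bott_all k n (by omega) 1 (n - 2) (by omega) (by omega) _ (extOne _)]
  split_ifs with h1 h2 h3 h4 h5
  all_goals first
    | omega
    | exact iff_of_false not_false (by omega)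
    | exact iff_of_false one_ne_zero (by omega)
    | exact iff_of_true trivial (by omega)
    | exact iff_of_true rfl (by omega)
    | exact ⟨fun _ => by omega, fun _ => by omega⟩
    | (simp only [false_iff, true_iff]; omega)
    | (rw [mul_eq_zero, Nat.choose_eq_zero_iff, Nat.choose_eq_zero_iff]; omega)

theorem restrict_iff (hn : 2 ≤ n) (d : ℕ) (F : LefPen.Form n k d) (hF : F ≠ 0) :
    Subsingleton (Coh.HH (LefPen.hypIdeal F).subscheme
      ((Scheme.Modules.pullback (LefPen.hypIdeal F).subschemeι).obj (Tan k n)) 1) ↔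
      ¬ ((n = 2 ∧ 5 ≤ d) ∨ (n = 3 ∧ d = 4)) := by
  obtain ⟨T, hT, ⟨e₁⟩, ⟨e₂⟩, ⟨e₃⟩⟩ := restrict_seq (LefPen.hypIdeal F) (vb_tan k n)
  obtain ⟨eI⟩ := PlaneCurveLib.nonempty_idealMod_iso F hF
  haveI : Coh.IsQCoh ((Scheme.Modules.pullback (LefPen.hypIdeal F).subschemeι).obj (Tan k n)) :=
    FinLFAnn.isQCoh_of_isFinLocFree (CohCmpLib.isFinLocFree_pb _ (vb_tan k n))
  obtain ⟨p⟩ := QCohLib.nonempty_HH_push (LefPen.hypIdeal F).subschemeι
    ((Scheme.Modules.pullback (LefPen.hypIdeal F).subschemeι).obj (Tan k n)) 1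
  obtain ⟨δ⟩ := HodgePnLib.nonempty_delta_equiv (A := k) hT 1
    (SerreVanLib.subsingleton_HH_of_iso e₂ 1 (sub_tan k n hn 1 le_rfl one_le_two))
    (SerreVanLib.subsingleton_HH_of_iso e₂ 2 (sub_tan k n hn 2 one_le_two le_rfl))
  have i₁ := e₁ ≪≫ HilbPolyLib.congrRight (Tan k n) eI
  rw [← sub_two_iff k n hn d, p.toEquiv.subsingleton_congr,
    ← (CurvLib.hIso (k := k) e₃ 1).toEquiv.subsingleton_congr, δ.toEquiv.subsingleton_congr,
    (CurvLib.hIso (k := k) i₁ 2).toEquiv.subsingleton_congr]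

end TanPnLib
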